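import Cfsg.Agent.Omega.Quasithin.Row.MTwelve
import Cfsg.Agent.H690.Spor.RankThree

/-!
# The rank 3 action of `M₁₂` on the 66 pairs (helper635)
-/

set_option autoImplicit false

namespace Cfsg.Agent.H635.Cod.MTwelve

open Equiv Cfsg Cfsg.Agent.CoThreeStd.M12 Cfsg.Agent.H690.Spor.RankThree

/-- the pairs -/
abbrev Pr : Type := {s : Finset (Fin 12) // s.card = 2}

instance act : MulAction G12 Pr where
  smul g s := ⟨s.1.map (g : P12).toEmbedding, by rw [Finset.card_map]; exact s.2⟩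
  one_smul s := Subtype.ext (by
    show s.1.map ((1 : G12) : P12).toEmbedding = s.1
    exact Finset.map_refl)
  mul_smul g h s := Subtype.ext (by
    show s.1.map ((g * h : G12) : P12).toEmbedding = (s.1.map (h : P12).toEmbedding).map (g : P12).toEmbedding
    rw [Finset.map_map]
    rfl)

theorem smul_val (g : G12) (s : Pr) : (g • s).1 = s.1.map (g : P12).toEmbedding := rfl

/-- the pair `{a, b}` -/
def mk (a b : Fin 12) (h : a ≠ b) : Pr := ⟨{a, b}, Finset.card_pair h⟩

theorem exists_mk (s : Pr) : ∃ a b, ∃ h : a ≠ b, s = mk a b h := by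
  obtain ⟨s, hs⟩ := s
  obtain ⟨a, b, hab, rfl⟩ := Finset.card_eq_two.1 hs
  exact ⟨a, b, hab, rfl⟩

theorem smul_mk (g : G12) {a b : Fin 12} (h : a ≠ b) :
    g • mk a b h = mk ((g : P12) a) ((g : P12) b) ((g : P12).injective.ne h) := by
  apply Subtype.ext
  rw [smul_val]
  show Finset.map _ {a, b} = {(g : P12) a, (g : P12) b}
  simp

/-- `4`-transitivity -/
theorem trans (v w : Fin 4 → Fin 12) (hv : Function.Injective v) (hw : Function.Injective w) :
    ∃ g : G12, ∀ i, (g : P12) (v i) = w i := by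
  have key : ∀ u : Fin 4 → Fin 12, Function.Injective u → ∃ g : G12, (g : P12) 0 = u 0 ∧ (g : P12) 6 = u 1 ∧
      (g : P12) 1 = u 2 ∧ (g : P12) 2 = u 3 := by
    intro u hu
    exact Cfsg.Agent.Omega.Quasithin.M12.trans_four (u 0) (u 1) (u 2) (u 3) (hu.ne (by decide)) (hu.ne (by decide))
      (hu.ne (by decide)) (hu.ne (by decide)) (hu.ne (by decide)) (hu.ne (by decide))
  obtain ⟨g, g0, g1, g2, g3⟩ := key v hv
  obtain ⟨h, h0, h1, h2, h3⟩ := key w hw
  have inv : ∀ {i j : Fin 12}, (g : P12) i = j → ((h * g⁻¹ : G12) : P12) j = (h : P12) i := by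
    intro i j hij
    rw [← hij]
    simp
  refine ⟨h * g⁻¹, fun i => ?_⟩
  fin_cases i
  · exact (inv g0).trans h0
  · exact (inv g1).trans h1
  · exact (inv g2).trans h2
  · exact (inv g3).trans h3

theorem inj4 {a b c d : Fin 12} (hab : a ≠ b) (hac : a ≠ c) (had : a ≠ d) (hbc : b ≠ c) (hbd : b ≠ d) (hcd : c ≠ d) :
    Function.Injective ![a, b, c, d] := by
  intro i j hij
  fin_cases i <;> fin_cases j <;> simp_all

/-- the pairs are disjoint -/
def R (x y : Pr) : Prop := Disjoint x.1 y.1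

theorem R_mk {a b c d : Fin 12} (hab : a ≠ b) (hcd : c ≠ d) : R (mk a b hab) (mk c d hcd) ↔
    a ≠ c ∧ a ≠ d ∧ b ≠ c ∧ b ≠ d := by
  unfold R mk
  simp only [Finset.disjoint_insert_right, Finset.disjoint_singleton_right, Finset.mem_insert, Finset.mem_singleton,
    not_or]
  constructor
  · rintro ⟨⟨h1, h2⟩, h3, h4⟩
    exact ⟨Ne.symm h1, Ne.symm h3, Ne.symm h2, Ne.symm h4⟩
  · rintro ⟨h1, h2, h3, h4⟩
    exact ⟨⟨Ne.symm h1, Ne.symm h3⟩, Ne.symm h2, Ne.symm h4⟩

theorem mk_comm {a b : Fin 12} (h : a ≠ b) : mk a b h = mk b a h.symm := Subtype.ext (Finset.pair_comm a b)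

/-- two different meeting pairs -/
theorem exists_common {x y : Pr} (hxy : x ≠ y) (hR : ¬ R x y) : ∃ a b c, ∃ (hab : a ≠ b) (hac : a ≠ c), b ≠ c ∧
    x = mk a b hab ∧ y = mk a c hac := by
  unfold R at hR
  rw [Finset.not_disjoint_iff] at hR
  obtain ⟨a, hax, hay⟩ := hR
  have key : ∀ s : Pr, a ∈ s.1 → ∃ b, ∃ hab : a ≠ b, s = mk a b hab := by
    intro s hs
    obtain ⟨u, v, huv, rfl⟩ := exists_mk s
    have h1 : a = u ∨ a = v := by simpa [mk] using hs
    rcases h1 with rfl | rfl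
    · exact ⟨v, huv, rfl⟩
    · exact ⟨u, huv.symm, mk_comm huv⟩
  obtain ⟨b, hab, rfl⟩ := key x hax
  obtain ⟨c, hac, rfl⟩ := key y hay
  refine ⟨a, b, c, hab, hac, ?_, rfl, rfl⟩
  rintro rfl
  exact hxy rfl

theorem exists_ne (a b c : Fin 12) : ∃ d, d ≠ a ∧ d ≠ b ∧ d ≠ c := by
  have h : (({a, b, c} : Finset (Fin 12))ᶜ).Nonempty := by
    rw [← Finset.card_pos, Finset.card_compl, Fintype.card_fin]
    have := Finset.card_le_three (a := a) (b := b) (c := c)
    omega
  obtain ⟨d, hd⟩ := h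
  rw [Finset.mem_compl] at hd
  simp only [Finset.mem_insert, Finset.mem_singleton, not_or] at hd
  exact ⟨d, hd⟩

theorem card_R (x : Pr) : Nat.card {y // R x y} = 45 := by
  classical
  have e : {y // R x y} ≃ ↥((x.1ᶜ).powersetCard 2) :=
    { toFun := fun y => ⟨y.1.1, Finset.mem_powersetCard.2 ⟨fun i hi => Finset.mem_compl.2 fun hx =>
        (Finset.disjoint_left.1 y.2 hx) hi, y.1.2⟩⟩
      invFun := fun y => ⟨⟨y.1, (Finset.mem_powersetCard.1 y.2).2⟩, by
        show Disjoint x.1 y.1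
        rw [Finset.disjoint_left]
        intro i hx hy
        exact (Finset.mem_compl.1 ((Finset.mem_powersetCard.1 y.2).1 hy)) hx⟩
      left_inv := fun y => rfl
      right_inv := fun y => rfl }
  rw [Nat.card_congr e, Nat.card_eq_fintype_card, Fintype.card_coe, Finset.card_powersetCard, Finset.card_compl,
    Fintype.card_fin, x.2]
  decide

theorem card_Pr : Nat.card Pr = 66 := by
  classical
  have e : Pr ≃ ↥((Finset.univ : Finset (Fin 12)).powersetCard 2) :=
    { toFun := fun y => ⟨y.1, Finset.mem_powersetCard.2 ⟨Finset.subset_univ _, y.2⟩⟩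
      invFun := fun y => ⟨y.1, (Finset.mem_powersetCard.1 y.2).2⟩
      left_inv := fun y => rfl
      right_inv := fun y => rfl }
  rw [Nat.card_congr e, Nat.card_eq_fintype_card, Fintype.card_coe, Finset.card_powersetCard, Finset.card_univ,
    Fintype.card_fin]
  decide

theorem r3 : R3 G12 Pr R 45 20 where
  trans := ⟨fun x y => by
    obtain ⟨a, b, hab, rfl⟩ := exists_mk x
    obtain ⟨c, d, hcd, rfl⟩ := exists_mk y
    obtain ⟨a', ha1, ha2, -⟩ := exists_ne a b a
    obtain ⟨a'', hb1, hb2, hb3⟩ := exists_ne a b a'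
    obtain ⟨c', hc1, hc2, -⟩ := exists_ne c d c
    obtain ⟨c'', hd1, hd2, hd3⟩ := exists_ne c d c'
    obtain ⟨g, hg⟩ := trans ![a, b, a', a''] ![c, d, c', c''] (inj4 hab ha1.symm hb1.symm ha2.symm hb2.symm hb3.symm)
      (inj4 hcd hc1.symm hd1.symm hc2.symm hd2.symm hd3.symm)
    refine ⟨g, ?_⟩
    rw [smul_mk]
    apply Subtype.ext
    have h0 : (g : P12) a = c := hg 0
    have h1 : (g : P12) b = d := hg 1
    show ({(g : P12) a, (g : P12) b} : Finset (Fin 12)) = {c, d}
    rw [h0, h1]⟩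
  symm := fun x y h => Disjoint.symm h
  irr := fun x h => by
    have h1 : x.1 = ∅ := (disjoint_self.1 h)
    have h2 := x.2
    rw [h1] at h2
    simp at h2
  inv := fun g x y h => by
    show Disjoint (x.1.map _) (y.1.map _)
    rw [Finset.disjoint_map]
    exact h
  one := fun x y x' y' h h' => by
    obtain ⟨a, b, hab, rfl⟩ := exists_mk x
    obtain ⟨c, d, hcd, rfl⟩ := exists_mk y
    obtain ⟨a', b', hab', rfl⟩ := exists_mk x'
    obtain ⟨c', d', hcd', rfl⟩ := exists_mk y'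
    obtain ⟨h1, h2, h3, h4⟩ := (R_mk hab hcd).1 h
    obtain ⟨h1', h2', h3', h4'⟩ := (R_mk hab' hcd').1 h'
    obtain ⟨g, hg⟩ := trans ![a, b, c, d] ![a', b', c', d'] (inj4 hab h1 h2 h3 h4 hcd) (inj4 hab' h1' h2' h3' h4' hcd')
    have e0 : (g : P12) a = a' := hg 0
    have e1 : (g : P12) b = b' := hg 1
    have e2 : (g : P12) c = c' := hg 2
    have e3 : (g : P12) d = d' := hg 3
    refine ⟨g, ?_, ?_⟩
    · rw [smul_mk]
      apply Subtype.ext
      show ({(g : P12) a, (g : P12) b} : Finset (Fin 12)) = {a', b'}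
      rw [e0, e1]
    · rw [smul_mk]
      apply Subtype.ext
      show ({(g : P12) c, (g : P12) d} : Finset (Fin 12)) = {c', d'}
      rw [e2, e3]
  two := fun x y x' y' hne h hne' h' => by
    obtain ⟨a, b, c, hab, hac, hbc, rfl, rfl⟩ := exists_common hne h
    obtain ⟨a', b', c', hab', hac', hbc', rfl, rfl⟩ := exists_common hne' h'
    obtain ⟨d, hd1, hd2, hd3⟩ := exists_ne a b c
    obtain ⟨d', hd1', hd2', hd3'⟩ := exists_ne a' b' c'
    obtain ⟨g, hg⟩ := trans ![a, b, c, d] ![a', b', c', d'] (inj4 hab hac hd1.symm hbc hd2.symm hd3.symm)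
      (inj4 hab' hac' hd1'.symm hbc' hd2'.symm hd3'.symm)
    have e0 : (g : P12) a = a' := hg 0
    have e1 : (g : P12) b = b' := hg 1
    have e2 : (g : P12) c = c' := hg 2
    refine ⟨g, ?_, ?_⟩
    · rw [smul_mk]
      apply Subtype.ext
      show ({(g : P12) a, (g : P12) b} : Finset (Fin 12)) = {a', b'}
      rw [e0, e1]
    · rw [smul_mk]
      apply Subtype.ext
      show ({(g : P12) a, (g : P12) c} : Finset (Fin 12)) = {a', c'}
      rw [e0, e2]
  cardk := card_R
  k0 := by norm_num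
  l0 := by norm_num
  cardn := card_Pr

end Cfsg.Agent.H635.Cod.MTwelve
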